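import Mathlib

/-!
# Piece (AR3) of #6956 (helper16; S0996 / S0999 / S4701, Brauer 1943): `ar_exc_pos`

Pure arithmetic: `(u p + e)(1 + h p) = (1 + n p) e`, `e ∣ p - 1`, `2 n ≤ p + 1`, `n ≥ 1` and
`(u p + e)² ≤ (1 + n p) p e` force `u = 0` and `h = n`.
-/

set_option autoImplicit false

namespace Cfsg.Agent.Helper14.B43

theorem ar_exc_pos (p e n u h : ℕ) (hp : 2 ≤ p) (he1 : 1 ≤ e) (hed : e ∣ p - 1) (hn1 : 1 ≤ n)
    (hprod : (u * p + e) * (1 + h * p) = (1 + n * p) * e) (hn : 2 * n ≤ p + 1)
    (hsq : (u * p + e) * (u * p + e) ≤ (1 + n * p) * p * e) : u = 0 ∧ h = n := by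
  -- the expanded relation `u + u h p + e h = n e`
  have hstar : u + u * h * p + e * h = n * e := by
    have h1 : p * (u + u * h * p + e * h) = p * (n * e) := by
      have := hprod
      ring_nf at this ⊢
      linarith
    exact Nat.eq_of_mul_eq_mul_left (by omega : 0 < p) h1
  obtain ⟨t, ht⟩ := hed
  have hpt : p = e * t + 1 := by omega
  -- `h = 0` is impossible
  have hh : 1 ≤ h := by
    by_contra hh0
    have h0 : h = 0 := by omega
    subst h0
    have hu : u = n * e := by simpa using hstar
    subst hu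
    have hA : n * e * p + e = e * (1 + n * p) := by ring
    rw [hA] at hsq
    have hpos : 0 < e * (1 + n * p) := by positivity
    have h2 : e * (1 + n * p) * (e * (1 + n * p)) ≤ e * (1 + n * p) * p := by
      calc e * (1 + n * p) * (e * (1 + n * p)) ≤ (1 + n * p) * p * e := hsq
        _ = e * (1 + n * p) * p := by ring
    have h3 : e * (1 + n * p) ≤ p := Nat.le_of_mul_le_mul_left h2 hpos
    have h4 : 1 + n * p ≤ e * (1 + n * p) := Nat.le_mul_of_pos_left _ (by omega)
    have h5 : p ≤ n * p := Nat.le_mul_of_pos_left _ (by omega)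
    omega
  -- `u ≥ 1` is impossible
  have hu0 : u = 0 := by
    by_contra hu
    have hu1 : 1 ≤ u := by omega
    -- `e ∣ u (1 + h)`
    have h1 : u * (1 + h) + e * (u * h * t + h) = e * n := by
      have := hstar
      rw [hpt] at this
      ring_nf at this ⊢
      linarith
    have hdvd : e ∣ u * (1 + h) :=
      (Nat.dvd_add_left (dvd_mul_right e _)).mp (h1 ▸ dvd_mul_right e n)
    obtain ⟨m, hm⟩ := hdvd
    have hm1 : 1 ≤ m := by
      rcases Nat.eq_zero_or_pos m with h0 | h0
      · subst h0
        have : 0 < u * (1 + h) := by positivity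
        omega
      · exact h0
    -- `m (1 + h p) + h (1 + h) = n (1 + h)`
    have h2 : e * (m * (1 + h * p) + h * (1 + h)) = e * (n * (1 + h)) := by
      have h3 : (u + u * h * p + e * h) * (1 + h) = n * e * (1 + h) := by rw [hstar]
      have h4 : (u + u * h * p + e * h) * (1 + h) =
          u * (1 + h) * (1 + h * p) + e * (h * (1 + h)) := by ring
      rw [h4, hm] at h3
      ring_nf
      ring_nf at h3
      linarith
    have h5 : m * (1 + h * p) + h * (1 + h) = n * (1 + h) :=
      Nat.eq_of_mul_eq_mul_left (by omega : 0 < e) h2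
    have h6 : 1 + h * p ≤ m * (1 + h * p) := Nat.le_mul_of_pos_left _ hm1
    have h7 : 2 * n * (1 + h) ≤ (p + 1) * (1 + h) := Nat.mul_le_mul_right _ hn
    have h8 : p ≤ h * p := Nat.le_mul_of_pos_left _ hh
    nlinarith
  refine ⟨hu0, ?_⟩
  subst hu0
  have h1 : e * h = e * n := by
    have := hstar
    simp only [zero_mul, zero_add] at this
    rw [this, mul_comm]
  exact Nat.eq_of_mul_eq_mul_left (by omega : 0 < e) h1

end Cfsg.Agent.Helper14.B43
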